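import Groth.Agent.FibCrit.FT
import Groth.Agent.FlatModBC.GenFlat
import Groth.Agent.GenFree.ReducedMain
import Mathlib

/-!
# Non-flatness of the generic fibre spreads to the neighbouring fibres
-/

set_option autoImplicit false
set_option maxSynthPendingDepth 3
set_option linter.style.haveILetI false

universe u

open TensorProduct

namespace Groth.Agent.FlatFibGen

/-- Localising in a second, commuting ring preserves flatness of a base change. -/
theorem flat_tensor_localize {B C D T M : Type u} [CommRing B] [CommRing C] [CommRing D] [CommRing T]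
    [Algebra B C] [Algebra B D] [Algebra C D] [IsScalarTower B C D] [Module.Flat C D] [Algebra B T]
    [AddCommGroup M] [Module C M] [Module B M] [IsScalarTower B C M]
    (h : Module.Flat T (T ⊗[B] M)) : Module.Flat T (T ⊗[B] (D ⊗[C] M)) := by
  rw [Module.Flat.iff_rTensor_preserves_injective_linearMap]
  intro N N' _ _ _ _ f hf
  letI : Module B N := Module.compHom N (algebraMap B T)
  letI : Module B N' := Module.compHom N' (algebraMap B T)
  haveI : IsScalarTower B T N := IsScalarTower.of_algebraMap_smul fun _ _ => rfl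
  haveI : IsScalarTower B T N' := IsScalarTower.of_algebraMap_smul fun _ _ => rfl
  let fB : N →ₗ[B] N' := f.restrictScalars B
  -- cancellation of `T`
  have key : ∀ (Y : Type u) [AddCommGroup Y] [Module B Y],
      Function.Injective (f.rTensor (T ⊗[B] Y)) ↔ Function.Injective (fB.rTensor Y) := fun Y _ _ => by
    let e := AlgebraTensorModule.cancelBaseChange B T T N Y
    let e' := AlgebraTensorModule.cancelBaseChange B T T N' Y
    have hnat : ∀ z, e' (f.rTensor (T ⊗[B] Y) z) = fB.rTensor Y (e z) := fun z => by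
      induction z with
      | zero => simp
      | add p q hp hq => simp only [map_add, hp, hq]
      | tmul n w =>
        induction w with
        | zero => simp
        | add p q hp hq => simp only [TensorProduct.tmul_add, map_add, hp, hq]
        | tmul t y => simp [e, e', fB]
    rw [show (⇑(fB.rTensor Y) : N ⊗[B] Y → N' ⊗[B] Y) = ⇑e' ∘ ⇑(f.rTensor (T ⊗[B] Y)) ∘ ⇑e.symm from
      funext fun z => ((hnat (e.symm z)).trans (by rw [e.apply_symm_apply])).symm,
      EquivLike.comp_injective, EquivLike.injective_comp]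
  rw [key]
  have hM : Function.Injective (fB.rTensor M) :=
    (key M).1 ((Module.Flat.iff_rTensor_preserves_injective_linearMap.1 h) f hf)
  rw [← LinearMap.lTensor_inj_iff_rTensor_inj] at hM ⊢
  let g : M ⊗[B] N →ₗ[C] M ⊗[B] N' := AlgebraTensorModule.lTensor C M fB
  have hg : Function.Injective g := hM
  have hD : Function.Injective (g.lTensor D) := Module.Flat.lTensor_preserves_injective_linearMap g hg
  let a := AlgebraTensorModule.assoc B C C D M N
  let a' := AlgebraTensorModule.assoc B C C D M N'
  have hnat : ∀ z, a' (fB.lTensor (D ⊗[C] M) z) = g.lTensor D (a z) := fun z => by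
    induction z with
    | zero => simp
    | add p q hp hq => simp only [map_add, hp, hq]
    | tmul w n =>
      induction w with
      | zero => simp
      | add p q hp hq => simp only [TensorProduct.add_tmul, map_add, hp, hq]
      | tmul d m => simp [a, a', g]
  intro x y hxy
  apply a.injective
  apply hD
  rw [← hnat, ← hnat, hxy]

variable {A B C M : Type u} [CommRing A] [CommRing B] [CommRing C] [Algebra A B] [Algebra B C] [Algebra A C]
  [IsScalarTower A B C] [AddCommGroup M] [Module C M] [Module B M] [Module A M] [IsScalarTower B C M]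
  [IsScalarTower A C M] [IsScalarTower A B M]

/-- A flat fibre gives flatness at the points above a prime over which the module is flat. -/
theorem flat_atPrime_of_fibre [IsNoetherianRing A] [Algebra.FiniteType A B] [Algebra.FiniteType A C] [Module.Finite C M]
    (Q : Ideal C) [Q.IsPrime] (hflat : Module.Flat A (LocalizedModule Q.primeCompl M))
    (k : Type u) [Field k] [Algebra A k] (hker : Q.comap (algebraMap A C) = RingHom.ker (algebraMap A k))
    (hk : ∀ x : k, ∃ a b : A, algebraMap A k b ≠ 0 ∧ algebraMap A k b * x = algebraMap A k a)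
    (Bk : Type u) [CommRing Bk] [Algebra B Bk] [Algebra k Bk] [Algebra A Bk] [IsScalarTower A B Bk]
    [IsScalarTower A k Bk] [Algebra.IsPushout A k B Bk] (hfib : Module.Flat Bk (Bk ⊗[B] M))
    (hne : Nontrivial (LocalizedModule Q.primeCompl M)) :
    Module.Flat B (LocalizedModule Q.primeCompl M) := by
  classical
  haveI : IsNoetherianRing C := Algebra.FiniteType.isNoetherianRing A C
  haveI : Algebra.FinitePresentation A C := Algebra.FinitePresentation.of_finiteType.1 inferInstance
  haveI : Module.FinitePresentation C M := Module.finitePresentation_of_finite C M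
  let p := Q.comap (algebraMap A C)
  let q := Q.comap (algebraMap B C)
  have hqp : q.comap (algebraMap A B) = p := by rw [Ideal.comap_comap, ← IsScalarTower.algebraMap_eq]
  let R' := Localization.AtPrime p
  let S' := Localization.AtPrime q
  let Q' := Localization.AtPrime Q
  letI : Algebra R' S' := (Localization.localRingHom p q (algebraMap A B) hqp.symm).toAlgebra
  letI : Algebra S' Q' := (Localization.localRingHom q Q (algebraMap B C) rfl).toAlgebra
  letI : Algebra R' Q' := ((algebraMap S' Q').comp (algebraMap R' S')).toAlgebra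
  haveI : IsScalarTower R' S' Q' := IsScalarTower.of_algebraMap_eq fun _ => rfl
  haveI : IsScalarTower B S' Q' := IsScalarTower.of_algebraMap_eq fun b => by
    rw [RingHom.algebraMap_toAlgebra, Localization.localRingHom_to_map]
    exact IsScalarTower.algebraMap_apply B C Q' b
  haveI : IsScalarTower A R' S' := IsScalarTower.of_algebraMap_eq fun a => by
    rw [RingHom.algebraMap_toAlgebra, Localization.localRingHom_to_map]
    exact IsScalarTower.algebraMap_apply A B S' a
  let e : LocalizedModule Q.primeCompl M ≃ₗ[C] Q' ⊗[C] M :=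
    (LocalizedModule.equivTensorProduct Q.primeCompl M).restrictScalars C
  have hflat' : Module.Flat A (Q' ⊗[C] M) := Module.Flat.of_linearEquiv (e.restrictScalars A).symm
  let T := S' ⧸ (IsLocalRing.maximalIdeal R').map (algebraMap R' S')
  -- the residue field acts on `T`
  have hunit : ∀ b : A, algebraMap A k b ≠ 0 → IsUnit (algebraMap A T b) := fun b hb => by
    rw [show algebraMap A T b = Ideal.Quotient.mk _ (algebraMap R' S' (algebraMap A R' b)) from by
      rw [← IsScalarTower.algebraMap_apply A R' S']; rfl]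
    refine IsUnit.map _ (IsUnit.map _ (IsLocalization.map_units R' (⟨b, ?_⟩ : p.primeCompl)))
    show b ∉ p
    rw [show p = RingHom.ker (algebraMap A k) from hker]
    exact hb
  have hzero : ∀ a : A, algebraMap A k a = 0 → algebraMap A T a = 0 := fun a ha => by
    rw [show algebraMap A T a = Ideal.Quotient.mk _ (algebraMap R' S' (algebraMap A R' a)) from by
      rw [← IsScalarTower.algebraMap_apply A R' S']; rfl]
    refine Ideal.Quotient.eq_zero_iff_mem.2 (Ideal.mem_map_of_mem _ ?_)
    rw [IsLocalization.AtPrime.to_map_mem_maximal_iff R' p, show p = RingHom.ker (algebraMap A k) from hker]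
    exact ha
  haveI : (RingHom.ker (algebraMap A k)).IsPrime := RingHom.ker_isPrime _
  let A₁ := A ⧸ RingHom.ker (algebraMap A k)
  let i₁ : A₁ →+* k := Ideal.Quotient.lift _ (algebraMap A k) fun a ha => ha
  let j₁ : A₁ →+* T := Ideal.Quotient.lift _ (algebraMap A T) fun a ha => hzero a ha
  letI : Algebra A₁ k := i₁.toAlgebra
  haveI : IsFractionRing A₁ k :=
    { map_units := fun ⟨x, hx⟩ => by
        obtain ⟨a, rfl⟩ := Ideal.Quotient.mk_surjective x
        exact isUnit_iff_ne_zero.2 fun h =>
          (nonZeroDivisors.ne_zero hx) (Ideal.Quotient.eq_zero_iff_mem.2 h)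
      surj := fun x => by
        obtain ⟨a, b, hb, hab⟩ := hk x
        refine ⟨⟨Ideal.Quotient.mk _ a, Ideal.Quotient.mk _ b, mem_nonZeroDivisors_of_ne_zero fun h =>
          hb (Ideal.Quotient.eq_zero_iff_mem.1 h)⟩, ?_⟩
        rw [mul_comm]
        exact hab
      exists_of_eq := fun {x y} h => ⟨1, by
        obtain ⟨a, rfl⟩ := Ideal.Quotient.mk_surjective x
        obtain ⟨b, rfl⟩ := Ideal.Quotient.mk_surjective y
        refine congrArg _ (Ideal.Quotient.eq.2 ?_)
        show algebraMap A k (a - b) = 0
        rw [map_sub]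
        exact sub_eq_zero.2 h⟩ }
  let ψ : k →+* T := IsLocalization.lift (M := nonZeroDivisors A₁) (g := j₁) fun ⟨x, hx⟩ => by
    obtain ⟨a, rfl⟩ := Ideal.Quotient.mk_surjective x
    exact hunit a fun h => nonZeroDivisors.ne_zero hx (Ideal.Quotient.eq_zero_iff_mem.2 h)
  let ψA : k →ₐ[A] T :=
    { ψ with commutes' := fun a => IsLocalization.lift_eq _ (Ideal.Quotient.mk _ a) }
  let φ : Bk →ₐ[A] T := Algebra.pushoutDesc Bk ψA (IsScalarTower.toAlgHom A B T) fun x y => mul_comm _ _
  letI : Algebra Bk T := φ.toRingHom.toAlgebra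
  haveI : IsScalarTower B Bk T := IsScalarTower.of_algebraMap_eq fun b =>
    (Algebra.pushoutDesc_right (R := A) (S := k) (R' := B) Bk ψA (IsScalarTower.toAlgHom A B T) _ b).symm
  have h1 : Module.Flat T (T ⊗[B] M) := by
    haveI := hfib
    exact Module.Flat.of_linearEquiv (AlgebraTensorModule.cancelBaseChange B Bk T T M).symm
  have h2 : Module.Flat T (T ⊗[B] (Q' ⊗[C] M)) := flat_tensor_localize h1
  let X := Q' ⊗[C] M
  haveI : IsLocalizedModule q.primeCompl (LinearMap.id : X →ₗ[B] X) := isLocalizedModule_id q.primeCompl X S'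
  have hbc : IsBaseChange S' (LinearMap.id : X →ₗ[B] X) :=
    (isLocalizedModule_iff_isBaseChange q.primeCompl S' _).1 inferInstance
  have h3 : Module.Flat T (T ⊗[S'] X) := by
    haveI := h2
    exact Module.Flat.of_linearEquiv
      ((LinearEquiv.baseChange S' T _ _ hbc.equiv.symm).trans (AlgebraTensorModule.cancelBaseChange B S' T T X))
  have hne' : Nontrivial (Q' ⊗[C] M) := e.toEquiv.symm.nontrivial
  obtain ⟨h4, -, -⟩ := FibCrit.ft_fibre (R := A) (S := B) (Q := C) (R' := R') (S' := S') (Q' := Q') (M := M) Q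
    hflat' hne' h3
  haveI := h4
  haveI : Module.Flat B S' := IsLocalization.flat S' q.primeCompl
  haveI : Module.Flat B (Q' ⊗[C] M) := Module.Flat.trans B S' _
  exact Module.Flat.of_linearEquiv (e.restrictScalars B)

/-- **Generic non-flatness.** -/
theorem exists_not_flat_fibres [IsDomain A] [IsNoetherianRing A] [Algebra.FiniteType A B] [Algebra.FiniteType A C]
    [Module.Finite C M] (Q₀ : Ideal C) [Q₀.IsPrime] (h0 : Q₀.comap (algebraMap A C) = ⊥)
    (hnf : ¬ Module.Flat B (LocalizedModule Q₀.primeCompl M)) :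
    ∃ f : A, f ≠ 0 ∧ ∀ (k : Type u) [Field k] [Algebra A k], algebraMap A k f ≠ 0 →
      (∀ x : k, ∃ a b : A, algebraMap A k b ≠ 0 ∧ algebraMap A k b * x = algebraMap A k a) →
      ∀ (Bk : Type u) [CommRing Bk] [Algebra B Bk] [Algebra k Bk] [Algebra A Bk] [IsScalarTower A B Bk]
        [IsScalarTower A k Bk] [Algebra.IsPushout A k B Bk], ¬ Module.Flat Bk (Bk ⊗[B] M) := by
  classical
  obtain ⟨f₁, -, hf₁, hfree₁, -⟩ := GenFree.generic_freeness_reduced (R := A) (S := C) (M := M) (one_ne_zero)
  obtain ⟨f, hdvd, hf, hfree₂, -⟩ := GenFree.generic_freeness_reduced (R := A) (S := C) (M := C ⧸ Q₀) hf₁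
  have hfree₁' := GenFree.free_away_localized_of_dvd hdvd M hfree₁
  refine ⟨f, hf, fun k _ _ hfk hk Bk _ _ _ _ _ _ _ hfib => hnf ?_⟩
  let L := Localization.Away f
  haveI : Module.Free L (L ⊗[A] (C ⧸ Q₀)) := by
    haveI := hfree₂
    exact Module.Free.of_equiv (LocalizedModule.equivTensorProduct (Submonoid.powers f) (C ⧸ Q₀))
  have hfQ : algebraMap A C f ∉ Q₀ := fun h => hf (by
    have h' : f ∈ Q₀.comap (algebraMap A C) := h
    rwa [h0, Ideal.mem_bot] at h')
  haveI : Nontrivial (L ⊗[A] (C ⧸ Q₀)) := by
    haveI : Nontrivial (LocalizedModule (Submonoid.powers f) (C ⧸ Q₀)) := by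
      refine ⟨LocalizedModule.mk 1 1, 0, fun h => hfQ ?_⟩
      rw [← LocalizedModule.zero_mk (1 : Submonoid.powers f), LocalizedModule.mk_eq] at h
      obtain ⟨⟨_, n, rfl⟩, hn⟩ := h
      have hn' : algebraMap A (C ⧸ Q₀) (f ^ n) = 0 := by
        simpa only [Submonoid.smul_def, OneMemClass.coe_one, one_smul, smul_zero, Algebra.smul_def, _root_.mul_one, mul_zero] using hn
      rw [IsScalarTower.algebraMap_apply A C (C ⧸ Q₀), Ideal.Quotient.algebraMap_eq, Ideal.Quotient.eq_zero_iff_mem,
        map_pow] at hn'
      exact Ideal.IsPrime.mem_of_pow_mem ‹_› n hn'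
    exact (LocalizedModule.equivTensorProduct (Submonoid.powers f) (C ⧸ Q₀)).toEquiv.symm.nontrivial
  letI : Algebra L k := (IsLocalization.Away.lift f (isUnit_iff_ne_zero.2 hfk)).toAlgebra
  haveI : IsScalarTower A L k :=
    IsScalarTower.of_algebraMap_eq' (IsLocalization.Away.lift_comp f _).symm
  haveI : Nontrivial (k ⊗[A] (C ⧸ Q₀)) := by
    let b := Module.Free.chooseBasis L (L ⊗[A] (C ⧸ Q₀))
    haveI : Nonempty (Module.Free.ChooseBasisIndex L (L ⊗[A] (C ⧸ Q₀))) := by
      by_contra hempty
      haveI := not_nonempty_iff.1 hempty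
      exact not_subsingleton (L ⊗[A] (C ⧸ Q₀)) b.repr.toEquiv.subsingleton
    haveI : Nontrivial (k ⊗[L] (L ⊗[A] (C ⧸ Q₀))) := (b.baseChange k).repr.toEquiv.nontrivial
    exact (AlgebraTensorModule.cancelBaseChange A L k k (C ⧸ Q₀)).toEquiv.symm.nontrivial
  obtain ⟨P, hP⟩ := Ideal.exists_maximal (k ⊗[A] (C ⧸ Q₀))
  let π : C →+* k ⊗[A] (C ⧸ Q₀) :=
    (Algebra.TensorProduct.includeRight (R := A) (A := k) (B := C ⧸ Q₀)).toRingHom.comp (Ideal.Quotient.mk Q₀)
  let Q := P.comap π
  haveI : Q.IsPrime := Ideal.comap_isPrime π P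
  have hle : Q₀ ≤ Q := fun c hc => by
    show π c ∈ P
    simp [π, Ideal.Quotient.eq_zero_iff_mem.2 hc]
  have hQA : Q.comap (algebraMap A C) = RingHom.ker (algebraMap A k) := by
    ext a
    have hπ : π (algebraMap A C a) = algebraMap A k a ⊗ₜ 1 := by
      show (1 : k) ⊗ₜ[A] (Ideal.Quotient.mk Q₀ (algebraMap A C a)) = _
      rw [Algebra.algebraMap_eq_smul_one (R := A) (A := k), smul_tmul, Algebra.smul_def, _root_.mul_one]
      rfl
    show π (algebraMap A C a) ∈ P ↔ algebraMap A k a = 0
    rw [hπ]
    refine ⟨fun h => ?_, fun h => by rw [h, TensorProduct.zero_tmul]; exact P.zero_mem⟩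
    by_contra hne
    exact hP.ne_top (P.eq_top_of_isUnit_mem h
      ((isUnit_iff_ne_zero.2 hne).map (Algebra.TensorProduct.includeLeftRingHom (R := A) (A := k) (B := C ⧸ Q₀))))
  have hfQ' : algebraMap A C f ∉ Q := fun h => hfk (hQA.le h)
  have hM₀ : Nontrivial (LocalizedModule Q₀.primeCompl M) := by
    by_contra hs
    haveI := not_nontrivial_iff_subsingleton.1 hs
    exact hnf inferInstance
  let gr : LocalizedModule Q.primeCompl M →ₗ[C] LocalizedModule Q₀.primeCompl M :=
    IsLocalizedModule.liftOfLE Q.primeCompl Q₀.primeCompl (fun c hc h => hc (hle h))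
      (LocalizedModule.mkLinearMap Q.primeCompl M) (LocalizedModule.mkLinearMap Q₀.primeCompl M)
  have hne : Nontrivial (LocalizedModule Q.primeCompl M) := by
    by_contra hs
    haveI := not_nontrivial_iff_subsingleton.1 hs
    obtain ⟨z, hz⟩ := exists_ne (0 : LocalizedModule Q₀.primeCompl M)
    obtain ⟨⟨w, s⟩, hws⟩ := IsLocalizedModule.surj Q₀.primeCompl gr z
    rw [Subsingleton.elim w 0, map_zero] at hws
    exact hz (IsLocalizedModule.smul_injective (LocalizedModule.mkLinearMap Q₀.primeCompl M) s (hws.trans (smul_zero _).symm))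
  haveI := flat_atPrime_of_fibre (A := A) (B := B) Q
    (FlatModBC.flat_localized_of_free_away f hfree₁' ⟨Q, inferInstance⟩ hfQ') k hQA hk Bk hfib hne
  exact InjFibre.flat_localized (R := B) Q₀.primeCompl gr

end Groth.Agent.FlatFibGen
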