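import Groth.Agent.FlatFibGen.Alg
import Groth.Agent.FlatLimMod.Basic
import Groth.Agent.FibIdem.Sections
import Groth.Prelude.Def_FlatMod2

/-!
# A generically non-flat module is non-flat on the neighbouring fibres
-/

set_option autoImplicit false
set_option maxSynthPendingDepth 3
set_option linter.style.haveILetI false
set_option backward.isDefEq.respectTransparency false

universe u

open CategoryTheory CategoryTheory.Limits AlgebraicGeometry TopologicalSpace TensorProduct

noncomputable section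

namespace Groth.Agent.FlatFibGen

/-- Flatness at the primes over the generic point gives flatness after inverting the base. -/
theorem flat_generic {A B C M : Type u} [CommRing A] [CommRing B] [CommRing C] [Algebra A B] [Algebra B C]
    [Algebra A C] [IsScalarTower A B C] [AddCommGroup M] [Module C M] [Module B M] [IsScalarTower B C M] [IsDomain A]
    (h : ∀ Q : PrimeSpectrum C, Q.asIdeal.comap (algebraMap A C) = ⊥ →
      Module.Flat B (LocalizedModule Q.asIdeal.primeCompl M))
    (Bk : Type u) [CommRing Bk] [Algebra B Bk]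
    (hu : ∀ a : A, a ≠ 0 → IsUnit (algebraMap B Bk (algebraMap A B a))) :
    Module.Flat Bk (Bk ⊗[B] M) := by
  let G := Algebra.algebraMapSubmonoid B (nonZeroDivisors A)
  let L := Localization G
  haveI : Module.Flat B (LocalizedModule G M) :=
    (InjFibre.flat_localized_comap_iff (A := B) (B := B) (C := C) (M := M) G).2 fun r hr => by
      refine h r (eq_bot_iff.2 fun a ha => ?_)
      by_contra hne
      refine hr _ ⟨a, mem_nonZeroDivisors_of_ne_zero hne, rfl⟩ ?_
      rwa [← IsScalarTower.algebraMap_apply]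
  haveI : Module.Flat B (L ⊗[B] M) :=
    Module.Flat.of_linearEquiv ((LocalizedModule.equivTensorProduct G M).restrictScalars B).symm
  haveI : Module.Flat L (L ⊗[B] M) := (Module.flat_iff_of_isLocalization L G (L ⊗[B] M)).2 inferInstance
  have hG : ∀ y : G, IsUnit (algebraMap B Bk y) := fun ⟨_, a, ha, rfl⟩ => hu a (nonZeroDivisors.ne_zero ha)
  letI : Algebra L Bk := (IsLocalization.lift (M := G) (S := L) hG).toAlgebra
  haveI : IsScalarTower B L Bk := IsScalarTower.of_algebraMap_eq fun b => (IsLocalization.lift_eq hG b).symm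
  exact Module.Flat.of_linearEquiv (AlgebraTensorModule.cancelBaseChange B L Bk Bk M).symm

variable {X Y S : Scheme.{u}}

/-- The morphism between the fibres. -/
abbrev fibMap (g : X ⟶ Y) (h : Y ⟶ S) (s : S) :
    pullback (g ≫ h) (S.fromSpecResidueField s) ⟶ pullback h (S.fromSpecResidueField s) :=
  pullback.lift (pullback.fst (g ≫ h) (S.fromSpecResidueField s) ≫ g) (pullback.snd (g ≫ h) (S.fromSpecResidueField s))
    ((Category.assoc _ _ _).trans pullback.condition)

theorem isPullback_fibMap (g : X ⟶ Y) (h : Y ⟶ S) (s : S) :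
    IsPullback (pullback.fst (g ≫ h) (S.fromSpecResidueField s)) (fibMap g h s) g
      (pullback.fst h (S.fromSpecResidueField s)) := by
  refine IsPullback.of_bot ?_ (pullback.lift_fst _ _ _).symm (IsPullback.of_hasPullback h (S.fromSpecResidueField s))
  rw [pullback.lift_snd]
  exact IsPullback.of_hasPullback _ _

theorem exists_nhd_not_flat [IsIntegral S] [IsNoetherian S] (g : X ⟶ Y) (h : Y ⟶ S) [LocallyOfFiniteType h]
    [LocallyOfFiniteType (g ≫ h)] (F : X.Modules) [Coh.IsQCoh F] (hF : CohB1.IsFP F)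
    (hη : ¬ FlatMod.IsFlatOver (fibMap g h (genericPoint S))
      ((Scheme.Modules.pullback (pullback.fst (g ≫ h) (S.fromSpecResidueField (genericPoint S)))).obj F)) :
    ∃ U : S.Opens, genericPoint S ∈ U ∧ ∀ s ∈ U, ¬ FlatMod.IsFlatOver (fibMap g h s)
      ((Scheme.Modules.pullback (pullback.fst (g ≫ h) (S.fromSpecResidueField s))).obj F) := by
  classical
  obtain ⟨η, hηdef⟩ : ∃ η, η = genericPoint S := ⟨_, rfl⟩
  rw [← hηdef] at hη ⊢
  simp only [FlatMod.IsFlatOver, not_forall] at hη
  obtain ⟨x', hx'⟩ := hη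
  set x := pullback.fst (g ≫ h) (S.fromSpecResidueField η) x' with hxdef
  have hxη : h (g x) = η := by
    have e1 : (pullback.fst (g ≫ h) (S.fromSpecResidueField η) ≫ g ≫ h) x' =
        (pullback.snd (g ≫ h) (S.fromSpecResidueField η) ≫ S.fromSpecResidueField η) x' := by rw [pullback.condition]
    simp only [Scheme.Hom.comp_apply] at e1
    rw [← hxdef] at e1
    rw [e1, Scheme.fromSpecResidueField_apply]
  obtain ⟨S₀, hS₀, hηS, -⟩ := exists_isAffineOpen_mem_and_subset (X := S) (x := η) (U := ⊤) trivial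
  obtain ⟨V, hV, hyV, hVS⟩ := exists_isAffineOpen_mem_and_subset (X := Y) (x := g x) (U := h ⁻¹ᵁ S₀)
    (show h (g x) ∈ S₀ by rw [hxη]; exact hηS)
  obtain ⟨U, hU, hxU, hUV⟩ := exists_isAffineOpen_mem_and_subset (X := X) (x := x) (U := g ⁻¹ᵁ V) hyV
  haveI : Nonempty S₀ := ⟨⟨η, hηS⟩⟩
  have hUS : U ≤ (g ≫ h) ⁻¹ᵁ S₀ := hUV.trans (g.preimage_mono hVS)
  let A := Γ(S, S₀)
  let B := Γ(Y, V)
  let C := Γ(X, U)
  let M := Γ(F, U)
  letI : Algebra A B := (h.appLE S₀ V hVS).hom.toAlgebra
  letI : Algebra B C := (g.appLE V U hUV).hom.toAlgebra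
  letI : Algebra A C := ((g ≫ h).appLE S₀ U hUS).hom.toAlgebra
  haveI : IsScalarTower A B C := IsScalarTower.of_algebraMap_eq fun a => by
    show ((g ≫ h).appLE S₀ U hUS) a = (g.appLE V U hUV) ((h.appLE S₀ V hVS) a)
    rw [← CommRingCat.comp_apply, Scheme.Hom.appLE_comp_appLE]
  letI : Module B M := FlatModB.secModule g F U V hUV
  haveI : IsScalarTower B C M := IsScalarTower.of_algebraMap_smul fun _ _ => rfl
  letI : Module A M := Module.compHom M ((g ≫ h).appLE S₀ U hUS).hom
  haveI : IsScalarTower A C M := IsScalarTower.of_algebraMap_smul fun _ _ => rfl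
  haveI : IsScalarTower A B M := IsScalarTower.of_algebraMap_smul fun a m => by
    show (algebraMap B C (algebraMap A B a)) • m = (algebraMap A C a) • m
    rw [← IsScalarTower.algebraMap_apply]
  haveI : IsNoetherianRing A := IsLocallyNoetherian.component_noetherian ⟨S₀, hS₀⟩
  haveI : Algebra.FiniteType A B := h.finiteType_appLE hS₀ hV hVS
  haveI : Algebra.FiniteType A C := (g ≫ h).finiteType_appLE hS₀ hU hUS
  haveI := LocFree.finitePresentation_sections_of_isFP ‹Coh.IsQCoh F› hF hU
  -- the fibres over the points of `S₀`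
  let ι := fun s => S.fromSpecResidueField s
  have htop : ∀ s, s ∈ S₀ → (⊤ : (Spec (S.residueField s)).Opens) ≤ ι s ⁻¹ᵁ S₀ := fun s hs z _ => by
    show S.fromSpecResidueField s z ∈ S₀
    rw [Scheme.fromSpecResidueField_apply]; exact hs
  have hO : ∀ s, s ∈ S₀ → IsAffineOpen (pullback.fst h (ι s) ⁻¹ᵁ V ⊓ pullback.snd h (ι s) ⁻¹ᵁ ⊤) := fun s hs => by
    haveI : IsAffine _ := hS₀
    haveI : IsAffine _ := hV
    haveI : IsAffine (⊤ : (Spec (S.residueField s)).Opens).toScheme := isAffineOpen_top _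
    exact .of_isIso (Scheme.Hom.isPullback_resLE (IsPullback.of_hasPullback h (ι s)) (htop s hs) hVS rfl).isoPullback.hom
  have hflatiff : ∀ (s : S) (hs : s ∈ S₀),
      let O := pullback.fst h (ι s) ⁻¹ᵁ V ⊓ pullback.snd h (ι s) ⁻¹ᵁ ⊤
      (∀ z ∈ pullback.fst (g ≫ h) (ι s) ⁻¹ᵁ U ⊓ fibMap g h s ⁻¹ᵁ O, FlatMod.IsFlatOverAt (fibMap g h s)
          ((Scheme.Modules.pullback (pullback.fst (g ≫ h) (ι s))).obj F) z) ↔
        (letI : Algebra B Γ(pullback h (ι s), O) := ((pullback.fst h (ι s)).appLE V O inf_le_left).hom.toAlgebra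
         Module.Flat Γ(pullback h (ι s), O) (Γ(pullback h (ι s), O) ⊗[B] M)) := fun s hs =>
    FlatLimMod.flat_tensor_sections_iff (isPullback_fibMap g h s) F ‹_› hV hU hUV (hO s hs) inf_le_left
  have hev : ∀ (s : S) (hs : s ∈ S₀) (a : A),
      ((ι s).appLE S₀ ⊤ (htop s hs) ≫ (Scheme.ΓSpecIso (S.residueField s)).hom) a = S.evaluation S₀ s hs a :=
    fun s hs a => by
      rw [FibIdem.fromSpecResidueField_appLE s S₀ hs, Category.assoc, Iso.inv_hom_id, Category.comp_id]
  -- a prime over the generic point where flatness fails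
  obtain ⟨Q, hQ0, hQnf⟩ : ∃ Q : PrimeSpectrum C, Q.asIdeal.comap (algebraMap A C) = ⊥ ∧
      ¬ Module.Flat B (LocalizedModule Q.asIdeal.primeCompl M) := by
    by_contra! hc
    let O := pullback.fst h (ι η) ⁻¹ᵁ V ⊓ pullback.snd h (ι η) ⁻¹ᵁ ⊤
    letI : Algebra B Γ(pullback h (ι η), O) := ((pullback.fst h (ι η)).appLE V O inf_le_left).hom.toAlgebra
    refine hx' ((hflatiff η hηS).2 (flat_generic (A := A) hc _ fun a ha => ?_) x' ⟨hxU, ?_⟩)
    · show IsUnit (((h.appLE S₀ V hVS) ≫ (pullback.fst h (ι η)).appLE V O inf_le_left) a)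
      have hw : ∀ (φ ψ : pullback h (ι η) ⟶ S) (_ : φ = ψ) e e', φ.appLE S₀ O e = ψ.appLE S₀ O e' := by
        rintro φ ψ rfl _ _; rfl
      rw [Scheme.Hom.appLE_comp_appLE, hw _ _ pullback.condition _ (fun z hz => htop η hηS trivial),
        ← Scheme.Hom.appLE_comp_appLE (pullback.snd h (ι η)) (ι η) S₀ ⊤ O (htop η hηS) inf_le_right,
        CommRingCat.comp_apply]
      refine IsUnit.map _ ((MulEquiv.isUnit_map (Scheme.ΓSpecIso (S.residueField η)).commRingCatIsoToRingEquiv.toMulEquiv).1 ?_)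
      show IsUnit (((ι η).appLE S₀ ⊤ (htop η hηS) ≫ (Scheme.ΓSpecIso (S.residueField η)).hom) a)
      rw [hev η hηS, isUnit_iff_ne_zero]
      refine (Scheme.evaluation_ne_zero_iff_mem_basicOpen S (x := η) hηS a).2 ?_
      rw [hηdef]
      refine ((genericPoint_spec S).mem_open_set_iff (S.basicOpen a).isOpen).2 ?_
      rw [Set.univ_inter, Set.nonempty_iff_ne_empty]
      exact fun he => ha ((basicOpen_eq_bot_iff a).1 (Opens.ext he))
    · refine ⟨?_, trivial⟩
      show pullback.fst h (ι η) (fibMap g h η x') ∈ V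
      rw [← Scheme.Hom.comp_apply, show fibMap g h η ≫ pullback.fst h (ι η) = pullback.fst (g ≫ h) (ι η) ≫ g from
        pullback.lift_fst _ _ _]
      exact hyV
  haveI := Q.isPrime
  obtain ⟨f, hf, hfib⟩ := exists_not_flat_fibres (A := A) (B := B) (M := M) Q.asIdeal hQ0 hQnf
  refine ⟨S.basicOpen f, ?_, fun s hs hflat => ?_⟩
  · rw [hηdef]
    refine ((genericPoint_spec S).mem_open_set_iff (S.basicOpen f).isOpen).2 ?_
    rw [Set.univ_inter, Set.nonempty_iff_ne_empty]
    exact fun he => hf ((basicOpen_eq_bot_iff f).1 (Opens.ext he))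
  · have hsS : s ∈ S₀ := S.basicOpen_le f hs
    let O := pullback.fst h (ι s) ⁻¹ᵁ V ⊓ pullback.snd h (ι s) ⁻¹ᵁ ⊤
    let k := S.residueField s
    let Bk := Γ(pullback h (ι s), O)
    letI : Algebra A k := (S.evaluation S₀ s hsS).hom.toAlgebra
    letI : Algebra B Bk := ((pullback.fst h (ι s)).appLE V O inf_le_left).hom.toAlgebra
    letI : Algebra k Bk :=
      ((Scheme.ΓSpecIso k).inv ≫ (pullback.snd h (ι s)).appLE ⊤ O inf_le_right).hom.toAlgebra
    letI : Algebra A Bk := ((algebraMap B Bk).comp (algebraMap A B)).toAlgebra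
    haveI : IsScalarTower A B Bk := IsScalarTower.of_algebraMap_eq fun _ => rfl
    have hP := (isIso_pushoutSection_iff (IsPullback.of_hasPullback h (ι s)) (htop s hsS) hVS (rfl : O = _)).1
      (isIso_pushoutSection_of_isAffineOpen (IsPullback.of_hasPullback h (ι s)) (htop s hsS) hVS rfl hS₀ (isAffineOpen_top _) hV)
    have he : (ι s).appLE S₀ ⊤ (htop s hsS) ≫ (Scheme.ΓSpecIso k).hom = S.evaluation S₀ s hsS := by
      rw [FibIdem.fromSpecResidueField_appLE s S₀ hsS, Category.assoc, Iso.inv_hom_id, Category.comp_id]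
    haveI : IsScalarTower A k Bk := IsScalarTower.of_algebraMap_eq fun a => by
      show ((h.appLE S₀ V hVS) ≫ (pullback.fst h (ι s)).appLE V O inf_le_left) a =
        (S.evaluation S₀ s hsS ≫ (Scheme.ΓSpecIso k).inv ≫ (pullback.snd h (ι s)).appLE ⊤ O inf_le_right) a
      rw [← he, Category.assoc, Iso.hom_inv_id_assoc]
      exact congr($(hP.w).hom a)
    haveI : Algebra.IsPushout A B k Bk := by
      refine CommRingCat.isPushout_iff_isPushout.1 ?_
      exact hP.of_iso (Iso.refl _) (Iso.refl _) (Scheme.ΓSpecIso k) (Iso.refl _) (by simp; rfl) (by simp; exact he)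
        (by simp; rfl) (by
          rw [Iso.refl_hom, Category.comp_id]
          exact (Iso.hom_inv_id_assoc (Scheme.ΓSpecIso k) _).symm)
    haveI : Algebra.IsPushout A k B Bk := Algebra.IsPushout.symm inferInstance
    refine hfib k ((Scheme.evaluation_ne_zero_iff_mem_basicOpen S (x := s) hsS f).2 hs) (fun z => ?_) Bk
      ((hflatiff s hsS).1 fun z _ => hflat z)
    obtain ⟨w, rfl⟩ := S.residue_surjective s z
    letI := TopCat.Presheaf.algebra_section_stalk S.presheaf (⟨s, hsS⟩ : S₀)
    haveI := hS₀.isLocalization_stalk ⟨s, hsS⟩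
    obtain ⟨⟨a, b⟩, hab⟩ := IsLocalization.surj (hS₀.primeIdealOf ⟨s, hsS⟩).asIdeal.primeCompl w
    refine ⟨a, b.1, ?_, ?_⟩
    · exact ((IsLocalization.map_units (S.presheaf.stalk s) b).map (S.residue s).hom).ne_zero
    · show (S.residue s) (algebraMap A _ b.1) * S.residue s w = (S.residue s) (algebraMap A _ a)
      rw [← map_mul, ← hab, mul_comm]

end Groth.Agent.FlatFibGen
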